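import Cfsg.Agent.Lib.CosetEnum.Defs

/-! Generated table data. -/

set_option autoImplicit false
set_option maxRecDepth 20000

namespace Cfsg.Lib.CosetEnum.Fi24Y2

/-- Table data. -/
def tabC_0_0 : Tab :=
  (.node 4 (.node 2 (.node 1 (.leaf 0x40000000000000025) (.leaf 0x40000000000000026)) (.node 1 (.leaf 0x40000000000000027) (.leaf 0x40000000000000028))) (.node 2 (.node 1 (.leaf 0x40000000000000029) (.leaf 0x4000000000000002a)) (.node 1 (.leaf 0x4000000000000002b) (.leaf 0x1000018000050000100000300000800001000000000060000140000400000c0000200000400000000018000050000100000300000800001000000000060000140000400000c0000200000400000000018000050000100000300000800001000000000060000140000400000c0000200000400000000018000050000100000300000800001000000000060000140000400000c00002000004000000000180000500001000003000008000010000000000000000000024))))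

/-- Table data. -/
def tabC_0 : Tab :=
  tabC_0_0

end Cfsg.Lib.CosetEnum.Fi24Y2
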